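import Mathlib

/-! Modules `A/(a)`, `A/(b)` for a pair of mutually annihilating elements. -/

universe u

namespace AnnPairLib

open CategoryTheory

variable {A : Type u} [CommRing A] (a b : A)

/-- `A/(a)` -/
noncomputable abbrev Q : ModuleCat.{u} A := ModuleCat.of A (A ⧸ Ideal.span {a})

/-- multiplication by `b`, from `A/(a)` to `A` -/
noncomputable def mulB (hab : a * b = 0) : (A ⧸ Ideal.span {a}) →ₗ[A] A :=
  Submodule.liftQ _ (LinearMap.mulRight A b) (by
    intro x hx
    obtain ⟨c, rfl⟩ := Ideal.mem_span_singleton.1 hx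
    simp [mul_comm a c, mul_assoc, hab])

theorem mulB_mk (hab : a * b = 0) (r : A) : mulB a b hab (Ideal.Quotient.mk _ r) = r * b := rfl

/-- `0 → A/(a) → A → A/(b) → 0` -/
noncomputable abbrev seq (hab : a * b = 0) : ShortComplex (ModuleCat.{u} A) :=
  ShortComplex.mk (X₁ := Q a) (X₂ := ModuleCat.of A A) (X₃ := Q b) (ModuleCat.ofHom (mulB a b hab))
    (ModuleCat.ofHom (Ideal.span {b}).mkQ) (by
      ext
      change (Submodule.Quotient.mk ((1 : A) * b) : A ⧸ Ideal.span {b}) = 0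
      rw [one_mul, Submodule.Quotient.mk_eq_zero]
      exact Ideal.mem_span_singleton_self b)

theorem seq_shortExact (hab : a * b = 0) (h1 : ∀ r, r * b = 0 → a ∣ r) : (seq a b hab).ShortExact := by
  refine ShortComplex.ShortExact.mk' ?_ ?_ ?_
  · rw [ShortComplex.moduleCat_exact_iff]
    intro x hx
    obtain ⟨c, hc⟩ := Ideal.mem_span_singleton.1 ((Submodule.Quotient.mk_eq_zero _).1 hx)
    exact ⟨Ideal.Quotient.mk _ c, by rw [hc, mul_comm]; rfl⟩
  · rw [ModuleCat.mono_iff_injective]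
    refine (injective_iff_map_eq_zero _).2 fun x hx => ?_
    obtain ⟨r, rfl⟩ := Ideal.Quotient.mk_surjective x
    exact Ideal.Quotient.eq_zero_iff_mem.2 (Ideal.mem_span_singleton.2 (h1 r hx))
  · rw [ModuleCat.epi_iff_surjective]
    exact Submodule.mkQ_surjective _


open Classical in
theorem finrank_ext (k : Type*) [Field k] [Algebra k A] (hab : a * b = 0) (h1 : ∀ r, r * b = 0 → a ∣ r)
    (hdec : ∀ r : A, ∃ (c : k) (u v : A), r = algebraMap k A c + a * u + b * v)
    (hne : ∀ r s : A, 1 = b * r - a * s → False) :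
    Module.finrank k (Abelian.Ext (Q b) (Q a) 1) = 1 := by
  have hS := AnnPairLib.seq_shortExact a b hab h1
  let π : ModuleCat.of A A ⟶ AnnPairLib.Q a := ModuleCat.ofHom (Ideal.span {a}).mkQ
  let e : Abelian.Ext (AnnPairLib.Q b) (AnnPairLib.Q a) 1 := hS.extClass.comp (Abelian.Ext.mk₀ (𝟙 (AnnPairLib.Q a))) (add_zero 1)
  rw [finrank_eq_one_iff']
  refine ⟨e, ?_, ?_⟩
  · intro h
    obtain ⟨x2, hx2⟩ := Abelian.Ext.contravariant_sequence_exact₁ hS _ _ (add_zero 1) h
    obtain ⟨g, rfl⟩ := (Abelian.Ext.mk₀_bijective _ _).2 x2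
    rw [Abelian.Ext.mk₀_comp_mk₀] at hx2
    have h3 := (Abelian.Ext.mk₀_bijective _ _).1 hx2
    have h4 : g.hom ((1 : A) * b) = Ideal.Quotient.mk _ (1 : A) :=
      congrArg (fun t : AnnPairLib.Q a ⟶ AnnPairLib.Q a => t.hom (Ideal.Quotient.mk (Ideal.span {a}) (1 : A))) h3
    obtain ⟨r, hr⟩ := Ideal.Quotient.mk_surjective (g.hom (1 : A))
    have h5 : g.hom ((1 : A) * b) = Ideal.Quotient.mk _ (b * r) := by
      calc g.hom ((1 : A) * b) = g.hom (b • (1 : A)) := by rw [smul_eq_mul, mul_one, one_mul]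
        _ = b • g.hom (1 : A) := map_smul g.hom b (1 : A)
        _ = _ := by rw [← hr]; rfl
    rw [h5, Ideal.Quotient.eq] at h4
    obtain ⟨s, hs⟩ := Ideal.mem_span_singleton.1 h4
    exact hne r s (by linear_combination -hs)
  · intro w
    obtain ⟨x1, hx1⟩ := Abelian.Ext.contravariant_sequence_exact₃ hS _ w (Abelian.Ext.eq_zero_of_projective _) (add_zero 1)
    obtain ⟨φ, rfl⟩ := (Abelian.Ext.mk₀_bijective _ _).2 x1
    obtain ⟨r, hr⟩ := Ideal.Quotient.mk_surjective (φ.hom (Ideal.Quotient.mk (Ideal.span {a}) (1 : A)))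
    obtain ⟨c, u, v, hd⟩ := hdec r
    refine ⟨c, ?_⟩
    have hφ : φ = c • 𝟙 (AnnPairLib.Q a) + ((AnnPairLib.seq a b hab).f ≫ (v • π)) := by
      apply ModuleCat.hom_ext
      apply Submodule.linearMap_qext
      apply LinearMap.ext_ring
      change φ.hom (Ideal.Quotient.mk _ (1 : A)) = c • Ideal.Quotient.mk _ (1 : A) + v • Ideal.Quotient.mk _ ((1 : A) * b)
      rw [← hr, Algebra.smul_def, hd]
      change _ = Ideal.Quotient.mk _ (algebraMap k A c) * _ + Ideal.Quotient.mk _ (v * (1 * b))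
      rw [map_one, mul_one, ← map_add, Ideal.Quotient.eq, Ideal.mem_span_singleton]
      exact ⟨u, by ring⟩
    rw [← hx1, hφ, Abelian.Ext.mk₀_add, Abelian.Ext.comp_add]
    have hz : hS.extClass.comp (Abelian.Ext.mk₀ (((AnnPairLib.seq a b hab).f ≫ (v • π)))) (add_zero 1) = 0 := by
      rw [← Abelian.Ext.mk₀_comp_mk₀, ← Abelian.Ext.comp_assoc _ _ _ (add_zero 1) (zero_add 0) (by omega),
        ShortComplex.ShortExact.extClass_comp, Abelian.Ext.zero_comp]
    rw [hz, add_zero, Abelian.Ext.smul_eq_comp_mk₀]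
    simp only [e, Abelian.Ext.comp_mk₀_id]
    congr 2
    apply ModuleCat.hom_ext
    apply LinearMap.ext; intro x
    exact algebraMap_smul A c x

end AnnPairLib
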