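import Mathlib
import Groth.Agent.AnnPairLib.Basic

/-! The periodic resolution of `A/(a, b)` for a pair of mutually annihilating elements. -/

universe u

namespace AnnPairLib

open CategoryTheory CategoryTheory.Limits

variable {A : Type u} [CommRing A] (a b : A)

/-- Hypotheses on the pair. -/
structure IsNode : Prop where
  hab : a * b = 0
  h1 : ∀ r, r * b = 0 → a ∣ r
  h2 : ∀ r, r * a = 0 → b ∣ r
  h3 : ∀ u v, a * u + b * v = 0 → a * u = 0

/-- the modules of the resolution -/
def X : ℕ → ModuleCat.{u} A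
  | 0 => ModuleCat.of A A
  | _ + 1 => ModuleCat.of A (A × A)

/-- the coefficients of the differentials -/
def coeff : ℕ → A × A
  | 0 => (b, a)
  | n + 1 => (coeff n).swap

theorem coeff_cases : ∀ n, coeff a b n = (b, a) ∨ coeff a b n = (a, b)
  | 0 => Or.inl rfl
  | n + 1 => (coeff_cases n).elim (fun h => Or.inr (by simp [coeff, h])) (fun h => Or.inl (by simp [coeff, h]))

/-- the augmentation row -/
noncomputable def row : A × A →ₗ[A] A := LinearMap.coprod (LinearMap.mulLeft A a) (LinearMap.mulLeft A b)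

/-- the periodic part -/
noncomputable def diag (n : ℕ) : A × A →ₗ[A] A × A :=
  LinearMap.prodMap (LinearMap.mulLeft A (coeff a b n).1) (LinearMap.mulLeft A (coeff a b n).2)

/-- the differentials -/
noncomputable def d : ∀ n, X (A := A) (n + 1) ⟶ X n
  | 0 => ModuleCat.ofHom (row a b)
  | n + 1 => ModuleCat.ofHom (diag a b n)

variable {a b}

theorem range_diag_zero (h : IsNode a b) : LinearMap.range (diag a b 0) = LinearMap.ker (row a b) := by
  ext ⟨u, v⟩
  constructor
  · rintro ⟨⟨x, y⟩, e⟩
    rw [← e]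
    show a * (b * x) + b * (a * y) = 0
    linear_combination (x + y) * h.hab
  · intro e
    have e' : a * u + b * v = 0 := e
    have hu := h.h3 _ _ e'
    have hv : b * v = 0 := by rw [hu, zero_add] at e'; exact e'
    obtain ⟨x, rfl⟩ := h.h2 u (by rw [mul_comm]; exact hu)
    obtain ⟨y, rfl⟩ := h.h1 v (by rw [mul_comm]; exact hv)
    exact ⟨(x, y), rfl⟩

theorem range_diag_succ (h : IsNode a b) (n : ℕ) :
    LinearMap.range (diag a b (n + 1)) = LinearMap.ker (diag a b n) := by
  ext ⟨u, v⟩
  rcases coeff_cases a b n with e | e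
  · constructor
    · rintro ⟨⟨x, y⟩, f⟩
      rw [← f]
      simp only [diag, coeff, e, LinearMap.mem_ker, LinearMap.prodMap_apply, LinearMap.mulLeft_apply, Prod.swap_prod_mk,
        Prod.mk_eq_zero]
      exact ⟨by linear_combination x * h.hab, by linear_combination y * h.hab⟩
    · intro f
      simp only [diag, e, LinearMap.mem_ker, LinearMap.prodMap_apply, LinearMap.mulLeft_apply, Prod.mk_eq_zero] at f
      obtain ⟨x, rfl⟩ := h.h1 u (by linear_combination f.1)
      obtain ⟨y, rfl⟩ := h.h2 v (by linear_combination f.2)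
      exact ⟨(x, y), by simp [diag, coeff, e]⟩
  · constructor
    · rintro ⟨⟨x, y⟩, f⟩
      rw [← f]
      simp only [diag, coeff, e, LinearMap.mem_ker, LinearMap.prodMap_apply, LinearMap.mulLeft_apply, Prod.swap_prod_mk,
        Prod.mk_eq_zero]
      exact ⟨by linear_combination x * h.hab, by linear_combination y * h.hab⟩
    · intro f
      simp only [diag, e, LinearMap.mem_ker, LinearMap.prodMap_apply, LinearMap.mulLeft_apply, Prod.mk_eq_zero] at f
      obtain ⟨x, rfl⟩ := h.h2 u (by linear_combination f.1)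
      obtain ⟨y, rfl⟩ := h.h1 v (by linear_combination f.2)
      exact ⟨(x, y), by simp [diag, coeff, e]⟩

theorem d_comp (h : IsNode a b) : ∀ n, d a b (n + 1) ≫ d a b n = 0
  | 0 => ModuleCat.hom_ext (LinearMap.ext fun x => (range_diag_zero h).le ⟨x, rfl⟩)
  | n + 1 => ModuleCat.hom_ext (LinearMap.ext fun x => (range_diag_succ h n).le ⟨x, rfl⟩)

/-- the complex -/
noncomputable def cx (h : IsNode a b) : ChainComplex (ModuleCat.{u} A) ℕ := ChainComplex.of X (d a b) (d_comp h)

theorem cx_d (h : IsNode a b) (n : ℕ) : (cx h).d (n + 1) n = d a b n := ChainComplex.of_d X (d a b) n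

theorem range_row : LinearMap.range (row a b) = Ideal.span ({a, b} : Set A) := by
  ext x
  constructor
  · rintro ⟨⟨u, v⟩, rfl⟩
    exact Ideal.mem_span_pair.2 ⟨u, v, by simp [row, mul_comm]⟩
  · intro hx
    obtain ⟨u, v, rfl⟩ := Ideal.mem_span_pair.1 hx
    exact ⟨(u, v), by simp [row, mul_comm]⟩

/-- the resolution -/
noncomputable def resolution (h : IsNode a b) :
    ProjectiveResolution (ModuleCat.of A (A ⧸ Ideal.span ({a, b} : Set A))) where
  complex := cx h
  projective n := by
    cases n with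
    | zero => exact (IsProjective.iff_projective (R := A) A).mp inferInstance
    | succ n => exact (IsProjective.iff_projective (R := A) (A × A)).mp inferInstance
  π := (ChainComplex.toSingle₀Equiv _ _).symm ⟨ModuleCat.ofHom (Ideal.span ({a, b} : Set A)).mkQ, by
    rw [cx_d]
    exact ModuleCat.hom_ext (LinearMap.ext fun x => (Submodule.Quotient.mk_eq_zero _).2 (range_row.le ⟨x, rfl⟩))⟩
  quasiIso := ⟨fun n => by
    cases n with
    | zero =>
      rw [ChainComplex.quasiIsoAt₀_iff, ShortComplex.quasiIso_iff_of_zeros']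
      · refine (ShortComplex.exact_and_epi_g_iff_of_iso ?_).2
          ⟨(ShortComplex.moduleCat_exact_iff_range_eq_ker (ShortComplex.mk (ModuleCat.ofHom (row a b))
            (ModuleCat.ofHom (Ideal.span ({a, b} : Set A)).mkQ)
            (ModuleCat.hom_ext (LinearMap.ext fun x => (Submodule.Quotient.mk_eq_zero _).2 (range_row.le ⟨x, rfl⟩))))).mpr
            (range_row.trans (Submodule.ker_mkQ _).symm), (ModuleCat.epi_iff_surjective _).mpr (Submodule.mkQ_surjective _)⟩
        exact ShortComplex.isoMk (Iso.refl _) (Iso.refl _) (Iso.refl _) (by simp [cx_d]; rfl) (by simp; rfl)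
      all_goals rfl
    | succ n =>
      rw [quasiIsoAt_iff_exactAt']
      · rw [HomologicalComplex.exactAt_iff' _ (n + 1 + 1) (n + 1) n (by simp) (by simp),
          ShortComplex.moduleCat_exact_iff_range_eq_ker]
        show LinearMap.range ((cx h).d (n + 1 + 1) (n + 1)).hom = LinearMap.ker ((cx h).d (n + 1) n).hom
        rw [cx_d, cx_d]
        cases n with
        | zero => exact range_diag_zero h
        | succ n => exact range_diag_succ h n
      · apply ChainComplex.exactAt_succ_single_obj⟩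

theorem d_mem (n : ℕ) (x : X (A := A) (n + 1)) :
    d a b n x ∈ (Ideal.span ({a, b} : Set A)) • (⊤ : Submodule A (X (A := A) n)) := by
  have ha : a ∈ Ideal.span ({a, b} : Set A) := Ideal.subset_span (by simp)
  have hb : b ∈ Ideal.span ({a, b} : Set A) := Ideal.subset_span (by simp)
  cases n with
  | zero =>
    have : (d a b 0) x = a • (x : A × A).1 + b • (x : A × A).2 := rfl
    rw [this]
    exact add_mem (Submodule.smul_mem_smul ha trivial) (Submodule.smul_mem_smul hb trivial)
  | succ n =>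
    rcases coeff_cases a b n with e | e
    · have : (d a b (n + 1)) x = b • (((x : A × A).1, 0) : A × A) + a • ((0, (x : A × A).2) : A × A) := by
        show diag a b n x = _
        simp [diag, e]
      rw [this]
      exact add_mem (Submodule.smul_mem_smul hb trivial) (Submodule.smul_mem_smul ha trivial)
    · have : (d a b (n + 1)) x = a • (((x : A × A).1, 0) : A × A) + b • ((0, (x : A × A).2) : A × A) := by
        show diag a b n x = _
        simp [diag, e]
      rw [this]
      exact add_mem (Submodule.smul_mem_smul ha trivial) (Submodule.smul_mem_smul hb trivial)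

open MonoidalCategory TensorProduct in
/-- `Tor_i(A/(a,b), A/(a,b))` has length two for `i ≥ 1` when `(a, b)` is maximal. -/
theorem length_tor (h : IsNode a b) (hm : (Ideal.span ({a, b} : Set A)).IsMaximal) (i : ℕ) (hi : 1 ≤ i) :
    Module.length A ((((Tor (ModuleCat.{u} A) i).obj (ModuleCat.of A (A ⧸ Ideal.span ({a, b} : Set A)))).obj
      (ModuleCat.of A (A ⧸ Ideal.span ({a, b} : Set A)))) : Type u) = 2 := by
  obtain ⟨p, rfl⟩ : ∃ p, i = p + 1 := ⟨i - 1, by omega⟩
  let I := Ideal.span ({a, b} : Set A)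
  let κ := ModuleCat.of A (A ⧸ I)
  let F := (tensoringLeft (ModuleCat.{u} A)).obj κ
  let K := (F.mapHomologicalComplex (ComplexShape.down ℕ)).obj (cx h)
  have hz : ∀ n, K.d (n + 1) n = 0 := fun n => by
    show F.map ((cx h).d (n + 1) n) = 0
    rw [cx_d]
    refine ModuleCat.hom_ext (TensorProduct.ext' fun m x => ?_)
    show m ⊗ₜ[A] (d a b n x) = 0
    refine Submodule.smul_induction_on (d_mem n x) (fun r hr y _ => ?_) (fun y z hy hz => by
      rw [TensorProduct.tmul_add, hy, hz, add_zero])
    obtain ⟨s, rfl⟩ := Ideal.Quotient.mk_surjective m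
    have hrs : r • (Ideal.Quotient.mk I s : A ⧸ I) = 0 := by
      rw [← Ideal.Quotient.mk_eq_mk, ← Submodule.Quotient.mk_smul, Submodule.Quotient.mk_eq_zero]
      exact I.mul_mem_right s hr
    rw [← TensorProduct.smul_tmul, hrs, TensorProduct.zero_tmul]
  let S := K.sc' (p + 2) (p + 1) p
  let e : ((Tor (ModuleCat.{u} A) (p + 1)).obj κ).obj κ ≅ K.X (p + 1) :=
    (resolution h).isoLeftDerivedObj F (p + 1) ≪≫
      ShortComplex.homologyMapIso (K.isoSc' (p + 2) (p + 1) p (by simp) (by simp)) ≪≫
      (ShortComplex.HomologyData.ofZeros S (hz _) (hz _)).left.homologyIso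
  refine (e.toLinearEquiv.length_eq).trans ?_
  show Module.length A ((A ⧸ I) ⊗[A] (A × A)) = 2
  rw [((TensorProduct.prodRight A A (A ⧸ I) A A).trans
    ((TensorProduct.rid A (A ⧸ I)).prodCongr (TensorProduct.rid A (A ⧸ I)))).length_eq, Module.length_prod]
  have : IsSimpleModule A (A ⧸ I) := isSimpleModule_iff_isCoatom.2 hm.out
  rw [Module.length_eq_one]
  rfl

theorem not_lt_one (hab : a * b = 0) (h1 : ∀ r, r * b = 0 → a ∣ r) (h2 : ∀ r, r * a = 0 → b ∣ r)
    (hne : Ideal.span ({a, b} : Set A) ≠ ⊤) : ¬ HasProjectiveDimensionLT (Q a) 1 := by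
  intro hp
  have : CategoryTheory.Projective (Q a) := inferInstance
  have : Epi (ModuleCat.ofHom (Ideal.span {a}).mkQ : ModuleCat.of A A ⟶ Q a) :=
    (ModuleCat.epi_iff_surjective _).2 (Submodule.mkQ_surjective _)
  obtain ⟨s, hs⟩ := CategoryTheory.Projective.factors (𝟙 (Q a)) (ModuleCat.ofHom (Ideal.span {a}).mkQ : ModuleCat.of A A ⟶ Q a)
  have he : Ideal.Quotient.mk (Ideal.span {a}) (s (Ideal.Quotient.mk _ (1 : A))) = Ideal.Quotient.mk _ (1 : A) :=
    congrArg (fun t : Q a ⟶ Q a => t (Ideal.Quotient.mk _ (1 : A))) hs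
  have hz : s (Ideal.Quotient.mk _ (1 : A)) * a = 0 := by
    have h0 : a • (Ideal.Quotient.mk (Ideal.span {a}) (1 : A)) = 0 := by
      rw [← Ideal.Quotient.mk_eq_mk, ← Submodule.Quotient.mk_smul, Submodule.Quotient.mk_eq_zero, smul_eq_mul, mul_one]
      exact Ideal.mem_span_singleton_self a
    have := map_smul s.hom a (Ideal.Quotient.mk (Ideal.span {a}) (1 : A))
    rw [h0, map_zero] at this
    rw [mul_comm]
    exact this.symm
  obtain ⟨t, ht⟩ := h2 _ hz
  rw [Ideal.Quotient.eq, Ideal.mem_span_singleton] at he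
  obtain ⟨r, hr⟩ := he
  refine hne ((Ideal.eq_top_iff_one _).2 (Ideal.mem_span_pair.2 ⟨-r, t, ?_⟩))
  linear_combination hr - ht

theorem not_lt (n : ℕ) : ∀ (a b : A), a * b = 0 → (∀ r, r * b = 0 → a ∣ r) → (∀ r, r * a = 0 → b ∣ r) →
    Ideal.span ({a, b} : Set A) ≠ ⊤ → ¬ HasProjectiveDimensionLT (Q a) (n + 1) := by
  induction n with
  | zero => exact fun a b hab h1 h2 hne => not_lt_one hab h1 h2 hne
  | succ n ih =>
    intro a b hab h1 h2 hne hp
    have hba : b * a = 0 := by rw [mul_comm]; exact hab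
    have hne' : Ideal.span ({b, a} : Set A) ≠ ⊤ := by rwa [Set.pair_comm]
    exact ih b a hba h2 h1 hne' (((seq_shortExact b a hba h2).hasProjectiveDimensionLT_X₃_iff n
      ((IsProjective.iff_projective (R := A) A).mp inferInstance)).1 hp)

/-- `0 → A/(b) × A/(a) → A → A/(a,b) → 0` -/
theorem not_lt_residue (h : IsNode a b) (hne : Ideal.span ({a, b} : Set A) ≠ ⊤) (n : ℕ) :
    ¬ HasProjectiveDimensionLT (ModuleCat.of A (A ⧸ Ideal.span ({a, b} : Set A))) n := by
  intro hp
  have hp2 : HasProjectiveDimensionLT (ModuleCat.of A (A ⧸ Ideal.span ({a, b} : Set A))) (n + 2) :=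
    hasProjectiveDimensionLT_of_ge _ n (n + 2) (by omega)
  have hba : b * a = 0 := by rw [mul_comm]; exact h.hab
  let f : ((A ⧸ Ideal.span {b}) × (A ⧸ Ideal.span {a})) →ₗ[A] A := LinearMap.coprod (mulB b a hba) (mulB a b h.hab)
  let S : ShortComplex (ModuleCat.{u} A) := ShortComplex.mk
    (X₁ := ModuleCat.of A ((A ⧸ Ideal.span {b}) × (A ⧸ Ideal.span {a}))) (X₂ := ModuleCat.of A A)
    (ModuleCat.ofHom f) (ModuleCat.ofHom (Ideal.span ({a, b} : Set A)).mkQ) (by
      refine ModuleCat.hom_ext (LinearMap.ext fun x => (Submodule.Quotient.mk_eq_zero _).2 ?_)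
      obtain ⟨x, y⟩ := x
      obtain ⟨r, rfl⟩ := Ideal.Quotient.mk_surjective x
      obtain ⟨s, rfl⟩ := Ideal.Quotient.mk_surjective y
      exact Ideal.mem_span_pair.2 ⟨r, s, rfl⟩)
  have hS : S.ShortExact := by
    refine ShortComplex.ShortExact.mk' ?_ ?_ ?_
    · rw [ShortComplex.moduleCat_exact_iff]
      intro x hx
      obtain ⟨r, s, rfl⟩ := Ideal.mem_span_pair.1 ((Submodule.Quotient.mk_eq_zero _).1 hx)
      exact ⟨(Ideal.Quotient.mk _ r, Ideal.Quotient.mk _ s), rfl⟩
    · rw [ModuleCat.mono_iff_injective]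
      refine (injective_iff_map_eq_zero _).2 fun x hx => ?_
      obtain ⟨x, y⟩ := x
      obtain ⟨r, rfl⟩ := Ideal.Quotient.mk_surjective x
      obtain ⟨s, rfl⟩ := Ideal.Quotient.mk_surjective y
      have hx' : r * a + s * b = 0 := hx
      have h3 : a * r = 0 := h.h3 r s (by linear_combination hx')
      refine Prod.ext (Ideal.Quotient.eq_zero_iff_mem.2 (Ideal.mem_span_singleton.2 (h.h2 r (by linear_combination h3))))
        (Ideal.Quotient.eq_zero_iff_mem.2 (Ideal.mem_span_singleton.2 (h.h1 s ?_)))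
      linear_combination hx' - h3
    · rw [ModuleCat.epi_iff_surjective]
      exact Submodule.mkQ_surjective _
  have h1 : HasProjectiveDimensionLT S.X₁ (n + 1) :=
    (hS.hasProjectiveDimensionLT_X₃_iff n ((IsProjective.iff_projective (R := A) A).mp inferInstance)).1 hp2
  let ret : Retract (Q a) S.X₁ :=
    { i := ModuleCat.ofHom (LinearMap.inr A (A ⧸ Ideal.span {b}) (A ⧸ Ideal.span {a}))
      r := ModuleCat.ofHom (LinearMap.snd A (A ⧸ Ideal.span {b}) (A ⧸ Ideal.span {a}))
      retract := rfl }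
  exact not_lt n a b h.hab h.h1 h.h2 hne (ret.hasProjectiveDimensionLT (n + 1))

end AnnPairLib
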